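import Cfsg.Agent.J4C.Cert
import Cfsg.Agent.J4C.Lib

set_option autoImplicit false
set_option Elab.async false
set_option maxRecDepth 100000
set_option linter.all false

namespace Cfsg.Agent.J4C.R
open Cfsg.Agent.CGT

noncomputable def dF0 : BT Fct := (.node 29 (.node 14 (.node 7 (.node 3 (.node 1 (.leaf ⟨0, 0, false, [4], [], []⟩) (.node 1 (.leaf ⟨0, 0, false, [6], [], []⟩) (.leaf ⟨0, 0, false, [8], [], []⟩))) (.node 2 (.node 1 (.leaf ⟨0, 0, false, [10], [], []⟩) (.leaf ⟨0, 0, false, [12], [], []⟩)) (.node 1 (.leaf ⟨0, 0, false, [14], [], []⟩) (.leaf ⟨0, 0, false, [18], [], []⟩)))) (.node 3 (.node 1 (.leaf ⟨0, 1, true, [], [], []⟩) (.node 1 (.leaf ⟨1, 1, false, [19], [], []⟩) (.leaf ⟨1, 1, false, [5, 10, 12,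 4, 10, 7], [], []⟩))) (.node 2 (.node 1 (.leaf ⟨1, 1, true, [5, 6, 0, 14, 18, 0, 14], [19, 0, 19, 10, 9, 19, 11, 0], []⟩) (.leaf ⟨1, 2, true, [2, 0, 3], [], []⟩)) (.node 1 (.leaf ⟨2, 2, false, [15, 8, 0, 12, 6, 9, 18, 14], [], []⟩) (.leaf ⟨2, 2, false, [18], [], []⟩))))) (.node 7 (.node 3 (.node 1 (.leaf ⟨2, 2, true, [11, 8, 11, 6, 16, 10, 18], [18, 9, 14, 7, 9, 6], []⟩) (.node 1 (.leaf ⟨2, 2, true, [9, 13, 10, 19, 16, 4, 2, 0], [12, 11, 12, 11, 9, 6, 15, 2], []⟩) (.leaf ⟨2, 1, true, [12, 16, 0, 19, 14, 18, 0, 7], [4, 8, 0, 4, 9, 6, 11, 12], []⟩))) (.node 2 (.node 1 (.leaf ⟨2, 2, false, [16, 12, 7, 18, 8, 5, 2], [], []⟩) (.leaf ⟨2, 1, true, [9, 14, 3, 17, 7, 11, 2], [16, 12, 6, 17, 0, 17, 9], []⟩)) (.node 1 (.leaf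 ⟨2, 2, false, [16, 6, 14, 7, 0, 16, 7], [], []⟩) (.leaf ⟨2, 2, false, [11, 18, 17, 7, 19, 7, 3, 0], [], []⟩)))) (.node 4 (.node 2 (.node 1 (.leaf ⟨1, 3, true, [3], [], []⟩) (.leaf ⟨3, 3, false, [7, 3, 10, 14, 6, 5, 19], [], []⟩)) (.node 1 (.leaf ⟨3, 3, true, [16, 10, 18, 5, 18, 10, 2], [8, 14, 18, 4, 10, 3, 8], []⟩) (.leaf ⟨3, 3, false, [12, 14, 9, 14, 9, 13], [], []⟩))) (.node 2 (.node 1 (.leaf ⟨3, 1, true, [9, 4, 2, 7, 17, 10, 12, 19], [13, 8, 15, 7, 18, 6, 15], []⟩) (.leaf ⟨3, 3, false, [0, 12, 7, 4, 16, 5, 10], [], []⟩)) (.node 1 (.leaf ⟨3, 3, false, [5, 12, 0, 17, 7, 8, 2], [], []⟩) (.leaf ⟨2, 3, true, [16, 5, 17, 0, 13, 11, 12, 2], [2, 6, 10, 13, 18, 4, 16, 3], []⟩)))))) (.node 15 (.node 7 (.node 3 (.node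 1 (.leaf ⟨3, 2, true, [19, 12, 18, 7, 11, 17, 10], [8, 17, 0, 14, 9, 14, 18, 14], []⟩) (.node 1 (.leaf ⟨2, 4, true, [15, 18, 12, 4, 18, 11, 0], [], []⟩) (.leaf ⟨4, 4, false, [3, 17, 0, 15, 16, 18, 5, 11], [], []⟩))) (.node 2 (.node 1 (.leaf ⟨4, 4, false, [7, 18, 5, 13, 14, 12, 2], [], []⟩) (.leaf ⟨4, 4, false, [11, 6, 16, 7, 14, 11, 13], [], []⟩)) (.node 1 (.leaf ⟨4, 2, true, [2, 17, 0, 9, 17, 5, 11, 14], [12, 14, 18, 6, 5, 13, 6, 4], []⟩) (.leaf ⟨4, 4, false, [11, 19, 17, 15, 17, 4, 17], [], []⟩)))) (.node 4 (.node 2 (.node 1 (.leaf ⟨2, 5, true, [18, 0, 8, 17, 2, 17, 11], [], []⟩) (.leaf ⟨5, 5, false, [6, 14, 3, 17, 15, 6, 8], [], []⟩)) (.node 1 (.leaf ⟨5, 2, true, [9, 7, 17, 10, 12, 0, 11, 0], [18, 17, 7, 16,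 3, 17, 9, 2], []⟩) (.leaf ⟨5, 5, false, [11, 7, 8, 6, 14, 5, 11], [], []⟩))) (.node 2 (.node 1 (.leaf ⟨4, 5, true, [12, 3, 17, 2, 12, 14], [12, 0, 16, 0, 17, 3], []⟩) (.leaf ⟨2, 6, true, [0, 9, 18, 11, 6, 9, 5], [], []⟩)) (.node 1 (.leaf ⟨6, 6, false, [18, 0, 10, 19, 5, 19, 4], [], []⟩) (.leaf ⟨6, 6, false, [11, 16, 10, 6, 19, 5, 8, 0], [], []⟩))))) (.node 7 (.node 3 (.node 1 (.leaf ⟨6, 6, false, [15, 0, 17, 8, 2, 16, 18], [], []⟩) (.node 1 (.leaf ⟨6, 5, true, [6, 18, 6, 14, 19, 11, 13, 3], [10, 0, 9, 4, 19, 7, 4], []⟩) (.leaf ⟨3, 1, true, [17, 7, 18, 14, 12, 16], [17, 9, 6, 15, 4, 10, 18, 13], []⟩))) (.node 2 (.node 1 (.leaf ⟨3, 3, false, [7, 8, 7, 7, 4, 17, 18, 0], [], []⟩) (.leaf ⟨2, 7, true, [2], [], []⟩))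 (.node 1 (.leaf ⟨7, 6, true, [13, 3, 10, 5, 13, 4, 19, 3], [12, 14, 6, 8, 0, 19, 0, 4], []⟩) (.leaf ⟨6, 7, true, [7, 19, 14, 17, 5, 12, 16], [6, 16, 15, 11, 15, 5, 18, 0], []⟩)))) (.node 4 (.node 2 (.node 1 (.leaf ⟨7, 3, true, [18, 10, 16, 3, 16, 0, 11, 0], [17, 10, 13, 7, 19, 8, 5], []⟩) (.leaf ⟨3, 7, true, [16, 5, 18, 14, 18, 13, 4, 0], [6, 11, 18, 10, 7, 8, 17, 2], []⟩)) (.node 1 (.leaf ⟨7, 7, false, [15, 5, 19, 15, 2, 17, 9, 2], [], []⟩) (.leaf ⟨7, 5, true, [17, 6, 17, 2, 15, 13, 14], [8, 3, 4, 15, 18, 5, 10], []⟩))) (.node 2 (.node 1 (.leaf ⟨5, 7, true, [7, 7, 14, 9, 0, 17, 11, 3], [15, 12, 14, 3, 16, 7, 16], []⟩) (.leaf ⟨7, 6, true, [15, 11, 4, 18, 7, 5, 8], [14, 9, 17, 18, 6, 19, 15, 2], []⟩)) (.node 1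 (.leaf ⟨6, 4, true, [8, 11, 16, 7, 16, 12, 0], [4, 18, 10, 9, 15, 16, 10], []⟩) (.leaf ⟨4, 6, true, [13, 8, 7, 13, 15, 2, 0], [4, 0, 18, 6, 17, 10, 9], []⟩)))))))
noncomputable def dd : Dce := ⟨12, m_ts, [3, 2, 1, 0], [], [], [-1], [[19], [1]], [[19], [1]], [[0, 1], [0, 0, 1]], [[[10, 8, 11], [10, 8, 11], [11, 0, 7, 8, 2, 6, 0]], [[18, 16, 11, 8, 0], [3, 8, 12, 14, 17, 8], [18, 16, 11, 8, 0], [11, 14, 0, 2, 10, 8, 13, 3, 4, 0]], [[], []]], [[0, 0, 0, 1], [0, 0, 0, 0, 1], [1]], dF0, [0, 7, 11, 21, 30, 36, 41, 48], []⟩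
noncomputable def dR0 : BT (List ℕ) := (.node 29 (.node 14 (.node 7 (.node 3 (.node 1 (.leaf [4]) (.node 1 (.leaf [6]) (.leaf [8]))) (.node 2 (.node 1 (.leaf [10]) (.leaf [12])) (.node 1 (.leaf [14]) (.leaf [18])))) (.node 3 (.node 1 (.leaf []) (.node 1 (.leaf [19]) (.leaf [5, 10, 12, 4, 10, 7]))) (.node 2 (.node 1 (.leaf [18, 6, 14, 8, 5]) (.leaf [])) (.node 1 (.leaf [15, 8, 5, 7, 13, 11]) (.leaf [19]))))) (.node 7 (.node 3 (.node 1 (.leaf [6, 4, 17, 7, 8, 16, 10]) (.node 1 (.leaf [19, 13, 9, 15, 16, 11, 5]) (.leaf [4, 9, 5, 8, 17, 5, 18]))) (.node 2 (.node 1 (.leaf [9, 2, 9, 4, 15, 7, 10, 3]) (.leaf [3, 5, 17, 6, 5, 9, 0])) (.node 1 (.leaf [15, 6, 5, 12, 11, 9, 14]) (.leaf [0, 16, 7, 19, 7, 17, 19])))) (.node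 4 (.node 2 (.node 1 (.leaf []) (.leaf [7, 4, 13, 8, 7, 5, 12])) (.node 1 (.leaf [10, 5, 8, 12, 6, 6, 17]) (.leaf [16, 10, 18, 18, 11, 17]))) (.node 2 (.node 1 (.leaf [18, 4, 14, 6, 14, 4, 18]) (.leaf [14, 5, 9, 2, 12, 15, 4])) (.node 1 (.leaf [13, 8, 7, 4, 10, 6, 4]) (.leaf [8, 0, 5, 17, 8, 5, 19, 3])))))) (.node 15 (.node 7 (.node 3 (.node 1 (.leaf [7, 9, 15, 19, 14, 17, 14]) (.node 1 (.leaf []) (.leaf [9, 2, 9, 4, 15, 7, 10, 3]))) (.node 2 (.node 1 (.leaf [3, 19, 14, 10, 18, 9, 4]) (.leaf [15, 6, 5, 12, 11, 9, 14])) (.node 1 (.leaf [5, 10, 3, 10, 12, 9, 10, 19]) (.leaf [18, 11, 0, 6, 9, 5, 11, 4])))) (.node 4 (.node 2 (.node 1 (.leaf []) (.leaf [3, 17, 3, 15, 7, 10, 3])) (.node 1 (.leaf [0, 17, 10, 19, 11,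 19, 10]) (.leaf [12, 11, 16, 10, 17, 5]))) (.node 2 (.node 1 (.leaf [12, 15, 19, 3, 7, 16, 5, 3]) (.leaf [])) (.node 1 (.leaf [0, 10, 8, 15, 18, 9]) (.leaf [4, 18, 8, 14, 3, 7, 14]))))) (.node 7 (.node 3 (.node 1 (.leaf [4, 12, 19, 5, 17, 6, 4]) (.node 1 (.leaf [19, 16, 0, 17, 5, 7, 3, 15]) (.leaf [14, 8, 10, 15, 6, 19, 10, 0]))) (.node 2 (.node 1 (.leaf [13, 14, 18, 0, 14, 17, 0]) (.leaf [])) (.node 1 (.leaf []) (.leaf [10, 8, 3, 14, 7, 10])))) (.node 4 (.node 2 (.node 1 (.leaf [5, 0, 13, 7, 14, 16, 9]) (.leaf [10, 9, 17, 10, 19, 17, 8])) (.node 1 (.leaf [12, 7, 17, 14, 8, 19, 7, 3]) (.leaf [8, 12, 18, 14, 4, 3]))) (.node 2 (.node 1 (.leaf [10, 7, 10, 8, 19, 5, 16, 3]) (.leaf [17, 8, 14, 6, 19, 13, 14])) (.node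 1 (.leaf [3, 0, 18, 0, 10, 13, 7, 3]) (.leaf [5, 19, 11, 12, 15, 19, 4, 19])))))))
noncomputable def RL : BT (List ℕ) := dR0
noncomputable def Ww : List ℕ := [0, 2, 12, 21, 7, 15, 21, 16, 0, 4, 2, 5, 0, 2, 6, 20, 7, 8, 19, 12, 2]
noncomputable def ZR2 : List (List ℕ) := [[0, 0], [1, 13, 21, 17, 7, 0, 6, 16, 20, 12], [1, 7, 21, 6, 21, 0, 20, 7, 20, 6], [0, 10, 0, 12, 7, 13, 9, 4, 20, 7, 2, 0, 18, 10, 12, 17, 21, 16, 14, 5]]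
theorem dd_c0 : dd.checksR RL [⟨1, [], 0, 0, []⟩, ⟨1, [], 0, 0, []⟩, ⟨1, [], 0, 0, []⟩, ⟨1, [], 0, 0, []⟩, ⟨1, [], 0, 0, []⟩, ⟨1, [], 0, 0, []⟩, ⟨1, [], 0, 0, []⟩, ⟨0, [], 0, 0, []⟩, ⟨3, [14, 13, 3, 10, 11, 2, 15], 2, 0, [[], [0]]⟩, ⟨3, [14, 3, 6, 1, 1, 8, 6, 1, 15], 2, 0, [[], [0, 0, 2, 0, 2, 1, 2, 1, 2, 1, 2, 1, 2, 1, 2, 0, 0, 2, 0, 2, 1]]⟩, ⟨2, [16, 14, 3, 11, 5, 0, 15], 0, 1, [[], [1, 2, 1, 2, 1, 2, 0, 0, 2, 0, 2, 0, 2, 0, 0, 2, 0, 2], [0, 0, 2, 1, 2, 0, 2, 0, 0, 2, 0, 2, 0, 2, 0, 2, 1, 2, 1, 2, 0]]⟩, ⟨0, [], 0, 0, []⟩, ⟨3, [22, 18, 17, 19, 19, 19, 19, 16, 19, 23], 2, 0, [[], [2, 0, 2, 0, 2, 0, 2, 1, 2, 0, 2, 0, 0, 2, 0, 2, 0, 2, 0, 0]]⟩, ⟨3, [22, 19, 18, 16, 23], 2, 0, [[], [1]]⟩, ⟨2, [22, 18, 18, 17, 17,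 19, 19, 23], 0, 1, [[], [0, 0, 2, 1, 2, 1, 2, 0, 0, 2, 0, 0, 2, 0, 0, 2, 1, 2, 1, 2, 0, 0, 2, 1], [0, 2, 0, 0, 2, 1, 2, 1, 2, 0, 2, 0, 2, 1, 2, 1, 2, 1, 2, 0]]⟩, ⟨2, [26, 22, 19, 19, 19, 23], 0, 1, [[], [0, 2, 1, 2, 1, 2, 1, 2, 0, 0, 2, 0, 0, 2, 1, 2, 1, 2, 0, 2, 1], [1, 2, 0, 0, 2, 0, 2, 1, 2, 0, 0, 2, 1, 2, 0, 2, 0]]⟩, ⟨2, [22, 19, 19, 16, 19, 21], 0, 1, [[], [1, 2, 1, 2, 0, 0, 2, 0, 2, 1, 2, 0, 0, 2, 1, 2, 0, 0], [1, 2, 0, 0, 2, 0, 2, 0, 2, 1, 2, 1, 2, 1, 2, 0, 0, 2, 0, 2, 0]]⟩, ⟨3, [33, 18, 16, 18, 23], 2, 0, [[], [0, 0, 2, 0, 2, 1, 2, 0, 2, 1, 2, 1, 2, 1, 2, 0, 0, 2, 0, 2, 0]]⟩, ⟨2, [34, 34, 22, 19, 17, 18, 21], 0, 1, [[], [2, 0, 0, 2, 0, 2, 0, 2, 0, 0, 2, 0, 0, 2, 0, 0, 2, 0, 2, 1, 2, 1], [1, 2, 0, 2, 0,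 0, 2, 0, 0, 2, 0, 2, 0, 2, 1, 2, 1]]⟩, ⟨3, [37, 17, 18, 18, 23], 2, 0, [[], [1, 2, 0, 2, 0, 0, 2, 1, 2, 0, 2, 0, 2, 0, 0, 2, 0, 2, 1, 2, 0, 0]]⟩, ⟨3, [22, 18, 18, 18, 23, 35, 38, 30], 0, 0, [[0, 2, 1, 2, 0, 2, 0, 2, 0, 0, 2, 1, 2, 0, 0, 2, 1], [1, 2, 1, 2, 0, 2, 0, 0, 2, 0, 0, 2, 1, 2, 1, 2, 0, 0, 2], [1, 2, 0, 0, 2, 0, 2, 0, 2, 0, 0, 2, 0, 0, 2, 0, 0, 2, 0, 2, 0, 2, 1]]⟩, ⟨0, [], 0, 0, []⟩, ⟨3, [42, 18, 19, 19, 19, 19, 43], 2, 0, [[], [0, 2, 0, 0, 2, 0, 2, 1, 2, 0, 0, 2, 0, 2, 0, 0]]⟩, ⟨2, [42, 17, 17, 19, 17, 18, 18, 16, 43], 0, 1, [[], [0, 2, 1, 2, 1, 2, 0, 2, 1, 2, 0, 2, 0, 0, 2, 0, 2, 0], [0, 2, 0, 2, 0, 0, 2, 0, 2, 0, 2, 1, 2, 1, 2, 0, 2, 1, 2, 0]]⟩, ⟨3, [46, 45, 47], 2, 0, [[], [2, 1, 2, 0, 2, 1, 2, 1,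 2, 0, 0, 2, 0, 0, 2, 0, 0, 2, 1, 2, 0, 0]]⟩, ⟨2, [42, 17, 17, 19, 21], 0, 1, [[], [1, 2, 1, 2, 1, 2, 1, 2, 0, 2, 0, 0, 2, 1, 2, 0, 2, 0, 2, 1], [1, 2, 0, 2, 1, 2, 1, 2, 0, 0, 2, 0, 2, 0, 2, 1, 2, 0, 0, 2, 0, 0]]⟩, ⟨3, [51, 19, 16, 19, 43], 2, 0, [[], [0, 2, 0, 2, 0, 2, 0, 2, 0, 2, 0, 2, 0, 2, 0, 2]]⟩, ⟨3, [46, 48, 42, 16, 16, 18, 18, 18, 16, 16, 19, 43], 0, 0, [[1, 2, 0, 2, 0, 0, 2, 1, 2, 0, 2, 1, 2, 0, 2, 0, 2, 0, 2, 1], [0, 2, 1, 2, 0, 0, 2, 1, 2, 0, 0, 2, 0, 0, 2, 0, 2, 0, 2, 1], [0, 0, 2, 0, 0, 2, 0, 0, 2, 0, 0, 2, 1, 2, 1, 2, 0, 2]]⟩, ⟨2, [27, 40, 22, 19, 19, 17, 43], 0, 2, [[], [2, 0, 0, 2, 1, 2, 1, 2, 0, 2, 0, 0, 2, 0, 2, 0, 2, 0, 0, 2, 0, 0], [1, 2, 0, 2, 0, 0, 2, 0, 2, 0, 2, 1, 2, 0, 2, 1, 2, 0, 2, 0,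 2]]⟩, ⟨3, [57, 45], 2, 0, [[], []]⟩, ⟨0, [], 0, 0, []⟩, ⟨3, [60, 34, 61], 2, 0, [[], [0, 2, 0, 0, 2, 0, 2, 1, 2, 0, 2, 0, 0, 2, 0, 2, 0, 2, 1, 2, 0]]⟩, ⟨3, [60, 41, 26, 26, 34, 61], 2, 0, [[], [1, 2, 1, 2, 0, 0, 2, 1, 2, 0, 0, 2, 0, 2, 0, 2, 0, 2, 0, 2, 0]]⟩, ⟨3, [60, 38, 61], 2, 0, [[], [2, 0, 2, 0, 2, 0, 2, 0, 0, 2, 0, 2, 1]]⟩, ⟨2, [64, 60, 29], 0, 1, [[], [2, 0, 2, 1, 2, 0, 0, 2, 1, 2, 0, 2, 1, 2, 0, 0, 2, 0, 0], [1, 2, 0, 0, 2, 1, 2, 1, 2, 0, 0, 2, 1, 2, 1, 2, 0, 0, 2, 0]]⟩, ⟨3, [69, 61], 2, 0, [[], [2, 0, 2, 0, 0, 2, 0, 2, 0, 2, 1, 2, 1, 2, 0, 0]]⟩, ⟨0, [], 0, 0, []⟩, ⟨3, [72, 38, 25, 26, 34, 39, 24, 73], 2, 0, [[], [0, 0, 2, 0, 2, 0, 2, 1, 2, 1, 2, 0, 2, 0, 0, 2, 1]]⟩, ⟨2, [74, 72, 35, 29], 0, 1, [[], [0,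 2, 0, 0, 2, 1, 2, 1, 2, 1, 2, 1, 2, 0, 2, 1, 2, 0, 0], [0, 2, 1, 2, 0, 2, 0, 2, 0, 2, 0, 2, 1, 2, 0, 2, 1, 2]]⟩, ⟨3, [77, 34, 25, 73], 2, 0, [[], [0, 2, 1, 2, 0, 2, 1, 2, 1, 2, 0, 2, 1, 2, 0]]⟩, ⟨2, [62, 70, 70, 60, 73], 0, 2, [[], [1, 2, 0, 0, 2, 0, 0, 2, 1, 2, 1, 2, 0, 0, 2, 0, 2, 0, 2, 0], [1, 2, 1, 2, 0, 2, 1, 2, 1, 2, 0, 2, 1, 2, 0, 2, 1, 2]]⟩, ⟨0, [], 0, 0, []⟩, ⟨3, [82, 35, 35, 41, 27, 35, 39, 25, 83], 2, 0, [[], [2, 1, 2, 1, 2, 0, 0, 2, 1, 2, 1, 2, 0, 0, 2, 0, 0, 2, 1]]⟩, ⟨3, [82, 38, 27, 24, 40, 35, 24, 83], 2, 0, [[], [2, 1, 2, 1, 2, 1, 2, 1, 2, 1, 2, 0, 2, 1, 2, 0, 2, 1, 2]]⟩, ⟨3, [82, 26, 39, 24, 35, 24, 83], 2, 0, [[], [0, 2, 0, 2, 0, 0, 2, 0, 0, 2, 0, 2, 1, 2, 0, 0, 2, 1, 2, 1, 2]]⟩, ⟨2, [84, 82,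 35, 24, 73], 0, 1, [[], [0, 0, 2, 1, 2, 1, 2, 1, 2, 1, 2, 1, 2], [2, 1, 2, 0, 0, 2, 0, 2, 0, 2, 0, 0, 2, 0, 0, 2, 0, 0, 2, 0]]⟩, ⟨2, [59, 22, 19, 17, 19, 16, 19, 21], 1, 0, [[], [1, 2, 0, 2, 0, 0, 2, 0, 0, 2, 1, 2, 0, 0, 2, 1], [1, 2, 0, 2, 0, 2, 0, 0, 2, 0, 0, 2, 1, 2, 1, 2, 0, 0], [1, 2, 1, 2, 0, 0, 2, 0, 2, 1, 2, 0, 0, 2, 0, 0, 2, 0, 2, 0, 2]]⟩, ⟨3, [93, 16, 18, 18, 16, 18, 17, 19, 43], 2, 0, [[], [0, 0, 2, 0, 0, 2, 0, 0, 2, 0, 0, 2, 0, 2, 1, 2, 0, 0, 2, 0]]⟩, ⟨0, [], 0, 0, []⟩, ⟨2, [96, 83], 0, 1, [[], [0, 2, 1, 2, 1, 2, 1, 2, 1, 2, 0, 2, 0, 0, 2, 0, 2, 0, 0, 2], [0, 0, 2, 0, 2, 1, 2, 1, 2, 0, 0, 2, 0, 0, 2, 0, 2, 0]]⟩, ⟨3, [99, 87, 87], 2, 0, [[], []]⟩, ⟨2, [96, 39, 27, 57], 0, 1, [[], [2, 0, 0, 2, 1, 2,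 0, 2, 0, 2, 1, 2, 0, 2, 0, 0, 2, 1, 2], [1, 2, 0, 0, 2, 0, 0, 2, 1, 2, 0, 2, 1, 2, 1, 2, 0, 2, 0, 0]]⟩, ⟨3, [103, 55, 53], 2, 0, [[], []]⟩, ⟨3, [104, 95, 94, 52, 53, 94, 55, 105], 2, 0, [[], [2, 1, 2, 1, 2, 0, 2, 1, 2, 1, 2, 0, 0, 2, 0, 0, 2, 0, 0]]⟩, ⟨2, [100, 89, 91], 0, 1, [[], [0, 2, 0, 2, 0, 0, 2, 0, 2, 1, 2, 1, 2, 0, 0, 2, 0, 2, 0, 2, 1], [0, 2, 1, 2, 1, 2, 1, 2, 1, 2, 1, 2, 1, 2, 1, 2, 0, 0, 2, 0, 2, 0]]⟩, ⟨3, [109, 78, 75], 2, 0, [[], []]⟩, ⟨2, [106, 110, 79, 72, 34, 25, 83], 1, 1, [[], [2, 1, 2, 0, 2, 1, 2, 0, 2, 0, 0, 2, 0, 2, 1, 2, 0, 0], [1, 2, 0, 0, 2, 0, 0, 2, 0, 0, 2, 0, 0, 2, 0, 2, 0, 0], [0, 2, 0, 0, 2, 0, 0, 2, 0, 0, 2, 0, 2, 0, 2, 1, 2, 1, 2, 0, 2, 0]]⟩, ⟨2, [112, 109, 80], 1, 1, [[], [1, 2,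 0, 0, 2, 1, 2, 1, 2, 0, 0, 2, 0], [2, 0, 2, 1, 2, 0, 0, 2, 0, 2, 1, 2, 1, 2, 0, 0, 2, 0, 2, 0], [2, 1, 2, 0, 2, 0, 0, 2, 1, 2, 0, 0, 2, 1, 2, 1, 2, 0]]⟩, ⟨3, [115, 63, 65, 63, 70, 63], 2, 0, [[], []]⟩] 0 59 = true := by decide +kernel
theorem dd_g : dd.goalsR RL 59 (ZR2.map (subz Ww)) [([15, 23, 34, 61, 71, 62, 71, 60, 22, 14], [[], [2, 0, 0, 2, 1, 2, 1, 2, 0, 0, 2, 1, 2, 0, 0, 2, 0, 2, 0], [], [1, 2, 1, 2, 0, 0, 2, 1, 2, 1, 2, 1, 2, 1, 2, 1, 2, 0, 2], [2, 0, 0, 2, 1, 2, 1, 2, 0, 0, 2, 1, 2, 0, 2, 0, 2, 0, 2, 0], [2, 1, 2, 0, 2, 0, 0, 2, 1, 2, 0, 2, 0, 0]]), ([15, 23, 38, 61, 70, 64, 60, 22, 14], [[], [], [], [0, 0, 2, 0, 2, 0, 2, 1, 2, 1, 2, 0, 2, 0, 2, 0, 0, 2, 1, 2, 1], [2, 1, 2, 0, 2, 0, 2, 1, 2, 0, 2, 1],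 [0, 2, 0, 2, 1, 2, 1, 2, 1, 2, 0, 0, 2, 1, 2, 1, 2, 0, 0, 2, 0, 0]]), ([15, 23, 34, 61, 71, 60, 22, 14], [[], [], [], [2, 1, 2, 0, 2, 0, 2, 1, 2, 0, 2, 0, 0, 2, 1, 2, 1, 2, 0, 0, 2, 0], [0, 2, 0, 2, 0, 2, 0, 0, 2, 0, 0, 2, 0, 2, 0, 2, 0, 0, 2, 0, 0], [1, 2, 0, 2, 0, 0, 2, 1, 2, 0, 0, 2, 0, 0, 2, 0, 0, 2, 0]]), ([15, 23, 61, 60, 83, 116, 65, 66, 65, 60, 22, 14], [[], [2, 0, 0, 2, 1, 2, 1, 2, 0, 0, 2, 1, 2, 0, 0, 2, 0, 2, 0], [], [2, 0, 2, 0, 2, 0, 2, 0, 2, 0, 2, 1, 2, 1, 2, 0, 0, 2, 0, 2], [1, 2, 1, 2, 0, 2, 0, 0, 2, 0, 0, 2, 0, 2, 0, 0, 2, 0, 0], [2, 0, 2, 0, 0, 2, 0, 0, 2, 1, 2, 1, 2, 0, 0, 2, 0, 0, 2, 0], [], [], []])] = true := by decide +kernel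
theorem dd_up {K Γ A : Type*} [Group K] [Group Γ] [CommGroup A] {X : Ctx K Γ A} (hy : dd.Hyp X m_ns) (hτ : ∀ v, X.τ v = 1) : dd.UptoR X RL 59 :=
  ((Dce.UptoR.zero).step hy hτ dd_c0)

end Cfsg.Agent.J4C.R
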